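import Groth.Agent.L19.AlgGrpBasic.AssocBundle
import Groth.Agent.L18.GIT.UnivQuot
import Groth.Prelude.Def_W4bk4git07Quot
import Groth.Prelude.Def_ChGrp
import Mathlib.AlgebraicGeometry.RelativeGluing
import Mathlib.AlgebraicGeometry.Gluing

/-!
# The mixed quotient of a Zariski-locally trivial principal bundle
-/

set_option autoImplicit false
set_option linter.style.haveILetI false
set_option linter.unusedSectionVars false
set_option backward.isDefEq.respectTransparency.types false
set_option backward.isDefEq.respectTransparency false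

universe u

open CategoryTheory MonoidalCategory CartesianMonoidalCategory MonObj AlgebraicGeometry Limits
open Groth.L19.AlgGrpBasic.Assoc (existsUnique_translator diag lift_diag)
open Groth.L25.Actions (one_act mul_act)

noncomputable section

namespace Groth.L16.MixedQuot

variable {S : Scheme.{u}} {G X U B : Over S} [GrpObj G] (a : AlgGrp.Action G X) (b : AlgGrp.Action G U)
  {π : U ⟶ B} (hsq : IsPullback b.act.left (snd G U).left π.left π.left)

/-- The opens of `B` over which `π` has a section. -/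
abbrev Ix (π : U ⟶ B) : Type u :=
  { W : B.left.Opens // ∃ s : (↑W : Scheme.{u}) ⟶ U.left, s ≫ π.left = W.ι }

/-- An open subscheme over the base. -/
abbrev op' (W : B.left.Opens) : Over S := Over.mk (W.ι ≫ B.hom)

/-- The inclusion. -/
abbrev jW (W : B.left.Opens) : op' W ⟶ B := Over.homMk W.ι rfl

instance (W : B.left.Opens) : Mono (jW W) := Over.mono_of_mono_left _

/-- The chosen section. -/
def sec (W : Ix π) : op' W.1 ⟶ U := Over.homMk W.2.choose (by
  show W.2.choose ≫ U.hom = W.1.ι ≫ B.hom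
  rw [← Over.w π, ← Category.assoc, W.2.choose_spec])

theorem sec_π (W : Ix π) : sec W ≫ π = jW W.1 := Over.OverMorphism.ext W.2.choose_spec

/-- The restriction map. -/
abbrev jVW {V W : B.left.Opens} (h : V ≤ W) : op' V ⟶ op' W :=
  Over.homMk (B.left.homOfLE h) (by simp)

theorem jVW_jW {V W : B.left.Opens} (h : V ≤ W) : jVW h ≫ jW W = jW V :=
  Over.OverMorphism.ext (B.left.homOfLE_ι h)

theorem res {V : B.left.Opens} (W : Ix π) (h : V ≤ W.1) :
    ∃ s : (↑V : Scheme.{u}) ⟶ U.left, s ≫ π.left = V.ι :=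
  ⟨B.left.homOfLE h ≫ W.2.choose, by rw [Category.assoc, W.2.choose_spec, B.left.homOfLE_ι]⟩

include hsq in
theorem exists_gen {T : Over S} (u : T ⟶ U) (W : Ix π) (w : T ⟶ op' W.1) (e : u ≫ π = w ≫ jW W.1) :
    ∃! g : T ⟶ G, lift g u ≫ b.act = w ≫ sec W :=
  existsUnique_translator b hsq (w ≫ sec W) u (by rw [Category.assoc, sec_π, e])

/-- The element moving `u` to the chosen section. -/
def gen {T : Over S} (u : T ⟶ U) (W : Ix π) (w : T ⟶ op' W.1) (e : u ≫ π = w ≫ jW W.1) : T ⟶ G :=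
  (exists_gen b hsq u W w e).exists.choose

theorem gen_spec {T : Over S} (u : T ⟶ U) (W : Ix π) (w : T ⟶ op' W.1) (e : u ≫ π = w ≫ jW W.1) :
    lift (gen b hsq u W w e) u ≫ b.act = w ≫ sec W :=
  (exists_gen b hsq u W w e).exists.choose_spec

theorem gen_eq {T : Over S} (u : T ⟶ U) (W : Ix π) (w : T ⟶ op' W.1) (e : u ≫ π = w ≫ jW W.1)
    {g : T ⟶ G} (hg : lift g u ≫ b.act = w ≫ sec W) : gen b hsq u W w e = g :=
  (exists_gen b hsq u W w e).unique (gen_spec b hsq u W w e) hg

theorem gen_nat {T' T : Over S} (j : T' ⟶ T) (u : T ⟶ U) (W : Ix π) (w : T ⟶ op' W.1) (e : u ≫ π = w ≫ jW W.1) :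
    gen b hsq (j ≫ u) W (j ≫ w) (by rw [Category.assoc, e, Category.assoc]) = j ≫ gen b hsq u W w e :=
  gen_eq b hsq _ W _ _ (by rw [← comp_lift, Category.assoc, gen_spec, Category.assoc])

/-- The transition element. -/
def tr {V W : Ix π} (h : V.1 ≤ W.1) : op' V.1 ⟶ G :=
  gen b hsq (sec V) W (jVW h) (by rw [sec_π, jVW_jW])

theorem gen_res {T : Over S} (u : T ⟶ U) {V W : Ix π} (h : V.1 ≤ W.1) (v : T ⟶ op' V.1) (e : u ≫ π = v ≫ jW V.1) :
    gen b hsq u W (v ≫ jVW h) (by rw [e, Category.assoc, jVW_jW]) = (v ≫ tr b hsq h) * gen b hsq u V v e :=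
  gen_eq b hsq _ W _ _ (by
    rw [mul_act, gen_spec, ← comp_lift, Category.assoc, tr, gen_spec, Category.assoc])

/-- Change of trivialisation. -/
def tmap {V W : Ix π} (h : V.1 ≤ W.1) : X ⊗ op' V.1 ⟶ X ⊗ op' W.1 :=
  lift (lift (snd X (op' V.1) ≫ tr b hsq h) (fst X (op' V.1)) ≫ a.act) (snd X (op' V.1) ≫ jVW h)

theorem lift_tmap {T : Over S} {V W : Ix π} (h : V.1 ≤ W.1) (x : T ⟶ X) (v : T ⟶ op' V.1) :
    lift x v ≫ tmap a b hsq h = lift (lift (v ≫ tr b hsq h) x ≫ a.act) (v ≫ jVW h) := by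
  refine CartesianMonoidalCategory.hom_ext _ _ ?_ ?_
  · rw [Category.assoc, tmap, lift_fst, lift_fst, ← Category.assoc, comp_lift, lift_snd_assoc, lift_fst]
  · rw [Category.assoc, tmap, lift_snd, lift_snd, lift_snd_assoc]

theorem tr_self (V : Ix π) : tr b hsq (le_refl V.1) = 1 :=
  gen_eq b hsq _ V _ _ (by
    rw [one_act, show jVW (le_refl V.1) = 𝟙 (op' V.1) from Over.OverMorphism.ext (B.left.homOfLE_rfl _),
      Category.id_comp])

theorem jVW_comp {U₁ V W : B.left.Opens} (h : U₁ ≤ V) (h' : V ≤ W) : jVW h ≫ jVW h' = jVW (h.trans h') :=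
  Over.OverMorphism.ext (B.left.homOfLE_homOfLE h h')

theorem tr_trans {U₁ V W : Ix π} (h : U₁.1 ≤ V.1) (h' : V.1 ≤ W.1) :
    tr b hsq (h.trans h') = (jVW h ≫ tr b hsq h') * tr b hsq h := by
  conv_rhs => arg 2; rw [tr]
  rw [← gen_res b hsq (sec U₁) h' (jVW h) (by rw [sec_π, jVW_jW])]
  rw [tr]
  congr 1
  exact (jVW_comp h h').symm

theorem tmap_id (V : Ix π) : tmap a b hsq (le_refl V.1) = 𝟙 _ := by
  rw [tmap, tr_self, MonObj.comp_one, one_act,
    show jVW (le_refl V.1) = 𝟙 (op' V.1) from Over.OverMorphism.ext (B.left.homOfLE_rfl _),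
    Category.comp_id, lift_fst_snd]

theorem tmap_comp {U₁ V W : Ix π} (h : U₁.1 ≤ V.1) (h' : V.1 ≤ W.1) :
    tmap a b hsq h ≫ tmap a b hsq h' = tmap a b hsq (h.trans h') := by
  conv_lhs => arg 1; rw [tmap]
  rw [lift_tmap, tmap, tr_trans b hsq h h', MonObj.comp_mul, mul_act, Category.assoc, Category.assoc,
    jVW_comp]

/-- The cover of `B`. -/
@[simps]
def cov (hzar : ∀ y : ↥B.left, ∃ W : Ix π, y ∈ W.1) : B.left.OpenCover where
  I₀ := Ix π
  X W := W.1
  f W := W.1.ι
  mem₀ := by
    rw [Scheme.presieve₀_mem_precoverage_iff]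
    refine ⟨fun x => ?_, inferInstance⟩
    obtain ⟨W, hW⟩ := hzar x
    exact ⟨W, ⟨x, hW⟩, rfl⟩

variable (hzar : ∀ y : ↥B.left, ∃ W : Ix π, y ∈ W.1)

instance : Preorder (cov hzar).I₀ := inferInstanceAs (Preorder (Ix π))

instance : Quiver.IsThin (cov hzar).I₀ := fun _ _ => inferInstance

instance : (cov hzar).LocallyDirected where
  trans {i j} f := B.left.homOfLE f.le
  trans_id i := B.left.homOfLE_rfl _
  trans_comp f g := (B.left.homOfLE_homOfLE f.le g.le).symm
  w f := B.left.homOfLE_ι f.le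
  directed {i j} x := by
    let k : Ix π := ⟨i.1 ⊓ j.1, res i inf_le_left⟩
    let y := (pullback.fst i.1.ι j.1.ι ≫ i.1.ι) x
    have h1 : y ∈ i.1 := (pullback.fst i.1.ι j.1.ι x).2
    have h2 : y ∈ j.1 := by
      show (pullback.fst i.1.ι j.1.ι ≫ i.1.ι) x ∈ j.1
      rw [pullback.condition]
      exact (pullback.snd i.1.ι j.1.ι x).2
    refine ⟨k, homOfLE (show k.1 ≤ i.1 from inf_le_left), homOfLE (show k.1 ≤ j.1 from inf_le_right),
      ⟨y, h1, h2⟩, ?_⟩
    apply (pullback.fst i.1.ι j.1.ι ≫ i.1.ι).isOpenEmbedding.injective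
    show (pullback.lift _ _ _ ≫ pullback.fst i.1.ι j.1.ι ≫ i.1.ι) _ = _
    rw [pullback.lift_fst_assoc, B.left.homOfLE_ι]
    rfl

/-- The gluing datum. -/
def datum : (cov hzar).RelativeGluingData where
  functor :=
    { obj := fun W => (X ⊗ op' (W : Ix π).1).left
      map := fun {V W} f => (tmap a b hsq (V := V) (W := W) f.le).left
      map_id := fun V => (congrArg CommaMorphism.left (tmap_id a b hsq V)).trans rfl
      map_comp := fun f g => (congrArg CommaMorphism.left (tmap_comp a b hsq f.le g.le)).symm.trans rfl }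
  natTrans :=
    { app := fun W => (snd X (op' (W : Ix π).1)).left
      naturality := fun V W f => by
        show (tmap a b hsq (V := V) (W := W) f.le).left ≫ (snd X (op' W.1)).left =
          (snd X (op' V.1)).left ≫ B.left.homOfLE f.le
        rw [← Over.comp_left, tmap, lift_snd]
        rfl }
  equifibered := fun {V W} f => by
    let t : op' (V : Ix π).1 ⟶ G := tr b hsq (V := V) (W := W) f.le
    let e : X ⊗ op' (V : Ix π).1 ⟶ X ⊗ op' V.1 := lift (lift (snd _ _ ≫ t) (fst _ _) ≫ a.act) (snd _ _)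
    let e' : X ⊗ op' (V : Ix π).1 ⟶ X ⊗ op' V.1 := lift (lift (snd _ _ ≫ t⁻¹) (fst _ _) ≫ a.act) (snd _ _)
    have he : ∀ s s' : op' (V : Ix π).1 ⟶ G, s * s' = 1 →
        lift (lift (snd X _ ≫ s') (fst _ _) ≫ a.act) (snd _ _) ≫
          lift (lift (snd X _ ≫ s) (fst _ _) ≫ a.act) (snd X (op' V.1)) = 𝟙 _ := fun s s' h => by
      rw [comp_lift, ← Category.assoc, comp_lift, lift_snd_assoc, lift_fst, lift_snd, ← mul_act,
        ← MonObj.comp_mul, h, MonObj.comp_one, one_act, lift_fst_snd]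
    haveI : IsIso e := ⟨e', he _ _ (inv_mul_cancel t), he _ _ (mul_inv_cancel t)⟩
    have hm : tmap a b hsq (V := V) (W := W) f.le = e ≫ (X ◁ jVW f.le) := by
      refine CartesianMonoidalCategory.hom_ext _ _ ?_ ?_
      · simp [tmap, e, t]
      · simp [tmap, e, t]
    have h1 : IsPullback e.left (snd X (op' V.1)).left (snd X (op' V.1)).left (𝟙 _) :=
      IsPullback.of_horiz_isIso ⟨by rw [← Over.comp_left, lift_snd, Category.comp_id]⟩
    have h2 := Groth.L18.GITQ.isPullback_whiskerLeft X (jVW (B := B) (V := V.1) (W := W.1) f.le)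
    have h3 := h1.paste_horiz h2
    rw [Category.id_comp, ← Over.comp_left, ← hm] at h3
    exact h3

/-- The glued scheme. -/
def quot : Over S := Over.mk ((datum a b hsq hzar).toBase ≫ B.hom)

/-- The projection to `B`. -/
def toB : quot a b hsq hzar ⟶ B := Over.homMk (datum a b hsq hzar).toBase rfl

/-- The chart. -/
def chart (W : Ix π) : X ⊗ op' W.1 ⟶ quot a b hsq hzar :=
  Over.homMk (colimit.ι (datum a b hsq hzar).functor W) (by
    show colimit.ι (datum a b hsq hzar).functor W ≫ (datum a b hsq hzar).toBase ≫ B.hom = _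
    rw [Scheme.Cover.RelativeGluingData.ι_toBase_assoc]
    exact Over.w (snd X (op' W.1)))

theorem ι_toB (W : Ix π) : chart a b hsq hzar W ≫ toB a b hsq hzar = snd X (op' W.1) ≫ jW W.1 :=
  Over.OverMorphism.ext ((datum a b hsq hzar).ι_toBase W)

theorem tmap_ι {V W : Ix π} (h : V.1 ≤ W.1) : tmap a b hsq h ≫ chart a b hsq hzar W = chart a b hsq hzar V :=
  Over.OverMorphism.ext (colimit.w (datum a b hsq hzar).functor (homOfLE h : V ⟶ W))

theorem isPullback_ι (W : Ix π) :
    IsPullback (snd X (op' W.1)) (chart a b hsq hzar W) (jW W.1) (toB a b hsq hzar) :=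
  Groth.L18.GITQ.isPullback_over (ι_toB a b hsq hzar W).symm
    ((datum a b hsq hzar).isPullback_natTrans_ι_toBase W)

instance (W : Ix π) : IsOpenImmersion (chart a b hsq hzar W).left :=
  inferInstanceAs (IsOpenImmersion ((datum a b hsq hzar).cover.f W))

instance (W : Ix π) : Mono (chart a b hsq hzar W) := Over.mono_of_mono_left _

/-- The class of `(x, u)`. -/
def cls {T : Over S} (x : T ⟶ X) (u : T ⟶ U) (W : Ix π) (w : T ⟶ op' W.1) (e : u ≫ π = w ≫ jW W.1) :
    T ⟶ quot a b hsq hzar :=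
  lift (lift (gen b hsq u W w e) x ≫ a.act) w ≫ chart a b hsq hzar W

theorem cls_nat {T' T : Over S} (j : T' ⟶ T) (x : T ⟶ X) (u : T ⟶ U) (W : Ix π) (w : T ⟶ op' W.1)
    (e : u ≫ π = w ≫ jW W.1) :
    j ≫ cls a b hsq hzar x u W w e =
      cls a b hsq hzar (j ≫ x) (j ≫ u) W (j ≫ w) (by rw [Category.assoc, e, Category.assoc]) := by
  rw [cls, cls, gen_nat b hsq j u W w e, ← Category.assoc j, comp_lift, ← Category.assoc j, comp_lift]

theorem cls_res {T : Over S} (x : T ⟶ X) (u : T ⟶ U) {V W : Ix π} (h : V.1 ≤ W.1) (v : T ⟶ op' V.1)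
    (w : T ⟶ op' W.1) (e : u ≫ π = v ≫ jW V.1) (e' : u ≫ π = w ≫ jW W.1) :
    cls a b hsq hzar x u V v e = cls a b hsq hzar x u W w e' := by
  obtain rfl : w = v ≫ jVW h := by rw [← cancel_mono (jW W.1), ← e', e, Category.assoc, jVW_jW]
  rw [cls, cls, gen_res b hsq u h v e, mul_act, ← tmap_ι a b hsq hzar h, ← Category.assoc, lift_tmap]

theorem cls_congr {T : Over S} (x : T ⟶ X) (u : T ⟶ U) (V W : Ix π) (v : T ⟶ op' V.1)
    (w : T ⟶ op' W.1) (e : u ≫ π = v ≫ jW V.1) (e' : u ≫ π = w ≫ jW W.1) :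
    cls a b hsq hzar x u V v e = cls a b hsq hzar x u W w e' := by
  let K : Ix π := ⟨V.1 ⊓ W.1, res V inf_le_left⟩
  have hr : Set.range (u ≫ π).left ⊆ Set.range K.1.ι := by
    rintro _ ⟨t, rfl⟩
    rw [Scheme.Opens.range_ι]
    refine ⟨?_, ?_⟩
    · rw [e]; exact (v.left t).2
    · rw [e']; exact (w.left t).2
  let z : T ⟶ op' K.1 := Over.homMk (IsOpenImmersion.lift K.1.ι (u ≫ π).left hr) (by
    show _ ≫ K.1.ι ≫ B.hom = T.hom
    rw [IsOpenImmersion.lift_fac_assoc]
    exact Over.w (u ≫ π))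
  have hz : u ≫ π = z ≫ jW K.1 := Over.OverMorphism.ext (IsOpenImmersion.lift_fac _ _ _).symm
  rw [← cls_res a b hsq hzar x u (V := K) (W := V) inf_le_left z v hz e,
    ← cls_res a b hsq hzar x u (V := K) (W := W) inf_le_right z w hz e']

/-- The part of `T` over `W`. -/
abbrev piece {T : Over S} (h : T ⟶ B) (W : B.left.Opens) : Over S :=
  Over.mk (pullback.fst h.left W.ι ≫ T.hom)

/-- Inclusion of the piece. -/
abbrev pi {T : Over S} (h : T ⟶ B) (W : B.left.Opens) : piece h W ⟶ T :=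
  Over.homMk (pullback.fst h.left W.ι) rfl

/-- The piece maps to `W`. -/
abbrev pW {T : Over S} (h : T ⟶ B) (W : B.left.Opens) : piece h W ⟶ op' W :=
  Over.homMk (pullback.snd h.left W.ι) (by
    show pullback.snd h.left W.ι ≫ W.ι ≫ B.hom = _
    rw [← pullback.condition_assoc, Over.w h]
    rfl)

theorem isPullback_piece {T : Over S} (h : T ⟶ B) (W : B.left.Opens) :
    IsPullback (pW h W) (pi h W) (jW W) h :=
  Groth.L18.GITQ.isPullback_over (Over.OverMorphism.ext pullback.condition.symm)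
    (IsPullback.of_hasPullback h.left W.ι).flip

include hzar in
theorem ext_local {T Z : Over S} (h : T ⟶ B) (f g : T ⟶ Z)
    (H : ∀ W : Ix π, pi h W.1 ≫ f = pi h W.1 ≫ g) : f = g :=
  Over.OverMorphism.ext (Scheme.Cover.hom_ext ((cov hzar).pullback₁ h.left) _ _ fun W => congrArg CommaMorphism.left (H W))

theorem exists_rho :
    ∃ ρ : X ⊗ U ⟶ quot a b hsq hzar, ∀ {T : Over S} (x : T ⟶ X) (u : T ⟶ U) (W : Ix π) (w : T ⟶ op' W.1)
      (e : u ≫ π = w ≫ jW W.1), lift x u ≫ ρ = cls a b hsq hzar x u W w e := by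
  let h : X ⊗ U ⟶ B := snd X U ≫ π
  let f : ∀ W : Ix π, piece h W.1 ⟶ quot a b hsq hzar := fun W =>
    cls a b hsq hzar (pi h W.1 ≫ fst X U) (pi h W.1 ≫ snd X U) W (pW h W.1)
      (by rw [Category.assoc]; exact (isPullback_piece h W.1).w.symm)
  let 𝒰 := (cov hzar).pullback₁ h.left
  have hcomp : ∀ V W : Ix π, pullback.fst (𝒰.f V) (𝒰.f W) ≫ (f V).left = pullback.snd (𝒰.f V) (𝒰.f W) ≫ (f W).left := by
    intro V W
    let P : Over S := Over.mk (pullback.fst (pi h V.1).left (pi h W.1).left ≫ (piece h V.1).hom)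
    let p : P ⟶ piece h V.1 := Over.homMk (pullback.fst (pi h V.1).left (pi h W.1).left) rfl
    let q : P ⟶ piece h W.1 := Over.homMk (pullback.snd (pi h V.1).left (pi h W.1).left) (by
      show pullback.snd _ _ ≫ (piece h W.1).hom = pullback.fst _ _ ≫ (piece h V.1).hom
      rw [← Over.w (pi h V.1), ← Over.w (pi h W.1), pullback.condition_assoc])
    have hpq : p ≫ pi h V.1 = q ≫ pi h W.1 := Over.OverMorphism.ext pullback.condition
    have key : p ≫ f V = q ≫ f W := by
      simp only [f]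
      rw [cls_nat, cls_nat]
      simp only [← Category.assoc, hpq]
      exact cls_congr a b hsq hzar _ _ _ _ _ _ _ _
    exact congrArg CommaMorphism.left key
  let ρ₀ : (X ⊗ U).left ⟶ (quot a b hsq hzar).left := Scheme.Cover.glueMorphisms 𝒰 (fun W => (f W).left) hcomp
  let ρ : X ⊗ U ⟶ quot a b hsq hzar := Over.homMk ρ₀ (Scheme.Cover.hom_ext 𝒰 _ _ fun W => by
    rw [Scheme.Cover.ι_glueMorphisms_assoc]
    exact (Over.w (f W)).trans (Over.w (pi h W.1)).symm)
  have hρ : ∀ W : Ix π, pi h W.1 ≫ ρ = f W := fun W =>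
    Over.OverMorphism.ext (Scheme.Cover.ι_glueMorphisms 𝒰 (fun W => (f W).left) hcomp W)
  refine ⟨ρ, fun {T} x u W w e => ?_⟩
  have e1 : w ≫ jW W.1 = lift x u ≫ h := by
    show _ = lift x u ≫ snd X U ≫ π
    rw [lift_snd_assoc, e]
  let m := (isPullback_piece h W.1).lift w (lift x u) e1
  have hm1 : m ≫ pW h W.1 = w := (isPullback_piece h W.1).lift_fst _ _ _
  have hm2 : m ≫ pi h W.1 = lift x u := (isPullback_piece h W.1).lift_snd _ _ _
  rw [← hm2, Category.assoc, hρ]
  simp only [f]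
  rw [cls_nat]
  simp only [← Category.assoc, hm2, lift_fst, lift_snd, hm1]

include hsq hzar in
/-- The mixed quotient exists. -/
theorem exists_quot [Flat π.left] [Surjective π.left] :
    ∃ (Q : Over S) (ρ : X ⊗ U ⟶ Q) (hρ : GIT.IsInvariant (a.prod b) ρ),
      Flat ρ.left ∧ Surjective ρ.left ∧ IsIso (GIT.PsiY (a.prod b) ρ hρ) := by
  obtain ⟨ρ, hρ⟩ := exists_rho a b hsq hzar
  have hρ' : ∀ {T : Over S} (v : T ⟶ X ⊗ U) (W : Ix π) (w : T ⟶ op' W.1)
      (e : (v ≫ snd X U) ≫ π = w ≫ jW W.1),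
      v ≫ ρ = cls a b hsq hzar (v ≫ fst X U) (v ≫ snd X U) W w e := fun v W w e => by
    rw [← hρ (v ≫ fst X U) (v ≫ snd X U) W w e, ← comp_lift, lift_fst_snd, Category.comp_id]
  have hbπ : b.act ≫ π = snd G U ≫ π := Over.OverMorphism.ext hsq.w
  have hact : ∀ {T : Over S} (g : T ⟶ G) (v : T ⟶ X ⊗ U), lift g v ≫ (a.prod b).act =
      lift (lift g (v ≫ fst X U) ≫ a.act) (lift g (v ≫ snd X U) ≫ b.act) := fun g v => lift_diag a b g v
  have hπ : ρ ≫ toB a b hsq hzar = snd X U ≫ π := by
    refine ext_local hzar (snd X U ≫ π) _ _ fun W => ?_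
    have e : (pi (snd X U ≫ π) W.1 ≫ snd X U) ≫ π = pW (snd X U ≫ π) W.1 ≫ jW W.1 := by
      rw [Category.assoc]; exact (isPullback_piece (snd X U ≫ π) W.1).w.symm
    rw [← Category.assoc, hρ' _ W _ e, cls, Category.assoc, ι_toB, lift_snd_assoc, ← e, Category.assoc]
  have hinv : GIT.IsInvariant (a.prod b) ρ := by
    let h := snd G (X ⊗ U) ≫ snd X U ≫ π
    refine ext_local hzar h _ _ fun W => ?_
    let v := pi h W.1 ≫ snd G (X ⊗ U)
    let g := pi h W.1 ≫ fst G (X ⊗ U)
    have e : (v ≫ snd X U) ≫ π = pW h W.1 ≫ jW W.1 := by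
      simp only [v, Category.assoc]; exact (isPullback_piece h W.1).w.symm
    have hp : pi h W.1 = lift g v := by rw [← comp_lift, lift_fst_snd, Category.comp_id]
    have e' : ((lift g v ≫ (a.prod b).act) ≫ snd X U) ≫ π = pW h W.1 ≫ jW W.1 := by
      rw [hact, lift_snd, Category.assoc, hbπ, lift_snd_assoc, e]
    rw [← Category.assoc, ← Category.assoc, hρ' v W _ e, hp, hρ' _ W _ e', cls, cls]
    congr 2
    simp only [hact, lift_fst, lift_snd]
    rw [← mul_act]
    congr 2
    refine (gen_eq b hsq _ W _ _ ?_).symm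
    rw [mul_act]
    exact gen_spec b hsq _ W _ _
  have hP : IsPullback (a.prod b).act (snd G (X ⊗ U)) ρ ρ := by
    have hπ' : ∀ {T : Over S} (v v' : T ⟶ X ⊗ U), v ≫ ρ = v' ≫ ρ →
        (v ≫ snd X U) ≫ π = (v' ≫ snd X U) ≫ π := fun v v' h => by
      rw [Category.assoc, Category.assoc, ← hπ, ← Category.assoc, h, Category.assoc]
    refine IsPullback.of_isLimit' ⟨hinv⟩ (PullbackCone.IsLimit.mk _
      (fun s => lift (existsUnique_translator b hsq (s.fst ≫ snd X U) (s.snd ≫ snd X U)
        (hπ' _ _ s.condition)).exists.choose s.snd) (fun s => ?_) (fun s => lift_snd _ _) (fun s m h1 h2 => ?_))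
    · have hg := (existsUnique_translator b hsq (s.fst ≫ snd X U) (s.snd ≫ snd X U)
        (hπ' _ _ s.condition)).exists.choose_spec
      generalize (existsUnique_translator b hsq (s.fst ≫ snd X U) (s.snd ≫ snd X U)
        (hπ' _ _ s.condition)).exists.choose = g at hg
      rw [hact]
      refine CartesianMonoidalCategory.hom_ext _ _ ?_ (by rw [lift_snd, hg])
      rw [lift_fst]
      let h := (s.fst ≫ snd X U) ≫ π
      refine ext_local hzar h _ _ fun W => ?_
      let j := pi h W.1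
      have e : ((j ≫ s.fst) ≫ snd X U) ≫ π = pW h W.1 ≫ jW W.1 := by
        simp only [Category.assoc]
        exact ((isPullback_piece h W.1).w.trans (by simp [h, j])).symm
      have e2 : ((j ≫ s.snd) ≫ snd X U) ≫ π = pW h W.1 ≫ jW W.1 := by
        rw [← e]; exact (hπ' _ _ (by rw [Category.assoc, Category.assoc, s.condition])).symm
      have hc : (j ≫ s.fst) ≫ ρ = (j ≫ s.snd) ≫ ρ := by rw [Category.assoc, Category.assoc, s.condition]
      rw [hρ' _ W _ e, hρ' _ W _ e2, cls, cls, cancel_mono] at hc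
      have hc' := congrArg (· ≫ fst X (op' W.1)) hc
      simp only [lift_fst] at hc'
      have hgen : gen b hsq ((j ≫ s.snd) ≫ snd X U) W (pW h W.1) e2 =
          gen b hsq ((j ≫ s.fst) ≫ snd X U) W (pW h W.1) e * (j ≫ g) := gen_eq b hsq _ W _ _ (by
        have h1 : lift (j ≫ g) ((j ≫ s.snd) ≫ snd X U) ≫ b.act = (j ≫ s.fst) ≫ snd X U := by
          rw [Category.assoc, ← comp_lift, Category.assoc, hg, Category.assoc]
        rw [mul_act, h1, gen_spec])
      rw [hgen, mul_act] at hc'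
      have hc'' := congrArg (fun z => lift (gen b hsq ((j ≫ s.fst) ≫ snd X U) W (pW h W.1) e)⁻¹ z ≫ a.act) hc'
      simp only [← mul_act, inv_mul_cancel, one_act] at hc''
      rw [inv_mul_cancel_left] at hc''
      rw [← Category.assoc j (lift g _), comp_lift, ← Category.assoc j, ← Category.assoc j]
      exact hc''.symm
    · refine CartesianMonoidalCategory.hom_ext _ _ ?_ (h2.trans (lift_snd _ _).symm)
      rw [lift_fst]
      refine (existsUnique_translator b hsq _ _ (hπ' _ _ s.condition)).unique ?_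
        (existsUnique_translator b hsq _ _ (hπ' _ _ s.condition)).exists.choose_spec
      rw [← h1, ← h2]
      conv_rhs => rw [show m = lift (m ≫ fst G (X ⊗ U)) (m ≫ snd G (X ⊗ U)) by
        rw [← comp_lift, lift_fst_snd, Category.comp_id], hact, lift_snd]
  have hloc : ∀ W : Ix π, Flat (pullback.snd ρ.left (chart a b hsq hzar W).left) ∧
      Surjective (pullback.snd ρ.left (chart a b hsq hzar W).left) := by
    intro W
    let h := snd X U ≫ π
    let u := pi h W.1 ≫ snd X U
    let x := pi h W.1 ≫ fst X U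
    let w := pW h W.1
    have e : u ≫ π = w ≫ jW W.1 := by simp only [u, Category.assoc]; exact (isPullback_piece h W.1).w.symm
    let θ : piece h W.1 ⟶ X ⊗ op' W.1 := lift (lift (gen b hsq u W w e) x ≫ a.act) w
    have hθ : θ ≫ chart a b hsq hzar W = pi h W.1 ≫ ρ := (hρ' (pi h W.1) W w e).symm
    have h1 : IsPullback θ (pi h W.1) (chart a b hsq hzar W) ρ := by
      have h2 : IsPullback (θ ≫ snd X (op' W.1)) (pi h W.1) (jW W.1) (ρ ≫ toB a b hsq hzar) := by
        rw [hπ, lift_snd]; exact isPullback_piece h W.1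
      exact IsPullback.of_right h2 hθ (isPullback_ι a b hsq hzar W)
    have h3 : IsPullback u θ π (snd X (op' W.1) ≫ jW W.1) := by
      refine IsPullback.of_isLimit' ⟨by rw [← Category.assoc, lift_snd, e]⟩ (PullbackCone.IsLimit.mk _
        (fun s => (isPullback_piece h W.1).lift (s.snd ≫ snd _ _)
          (lift (lift (gen b hsq s.fst W (s.snd ≫ snd _ _) (by rw [s.condition, Category.assoc]))⁻¹
            (s.snd ≫ fst _ _) ≫ a.act) s.fst) (by
          show _ = _ ≫ snd X U ≫ π
          rw [lift_snd_assoc, s.condition, Category.assoc])) (fun s => ?_) (fun s => ?_) (fun s m h1 h2 => ?_))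
      · simp only [u]
        rw [← Category.assoc, IsPullback.lift_snd, lift_snd]
      · simp only [θ]
        rw [comp_lift, ← Category.assoc _ (lift _ x), comp_lift, ← gen_nat b hsq _ u W w e]
        simp only [u, x, w, IsPullback.lift_fst, IsPullback.lift_snd_assoc, lift_fst, lift_snd]
        rw [← mul_act, mul_inv_cancel, one_act, ← comp_lift, lift_fst_snd, Category.comp_id]
      · refine (isPullback_piece h W.1).hom_ext ?_ ?_
        · rw [IsPullback.lift_fst]
          have := congrArg (· ≫ snd X (op' W.1)) h2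
          simp only [Category.assoc, θ, lift_snd] at this
          exact this
        · rw [IsPullback.lift_snd]
          refine CartesianMonoidalCategory.hom_ext _ _ ?_ (by rw [lift_snd, Category.assoc]; exact h1)
          rw [lift_fst]
          have hm := congrArg (· ≫ fst X (op' W.1)) h2
          have hw := congrArg (· ≫ snd X (op' W.1)) h2
          simp only [θ, Category.assoc, lift_fst, lift_snd] at hm hw
          rw [← Category.assoc m, comp_lift, ← gen_nat b hsq m u W w e] at hm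
          simp only [h1, hw] at hm
          rw [← hm, ← mul_act, inv_mul_cancel, one_act, Category.assoc]
    have h3' : IsPullback u.left θ.left π.left (snd X (op' W.1) ≫ jW W.1).left := h3.map (Over.forget S)
    have h1' : IsPullback θ.left (pi h W.1).left (chart a b hsq hzar W).left ρ.left := h1.map (Over.forget S)
    refine ⟨?_, ?_⟩
    · rw [← h1'.flip.isoPullback_inv_snd]
      haveI : Flat θ.left := MorphismProperty.of_isPullback (P := @Flat) h3' inferInstance
      infer_instance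
    · rw [← h1'.flip.isoPullback_inv_snd]
      haveI : Surjective θ.left := MorphismProperty.of_isPullback (P := @Surjective) h3' inferInstance
      infer_instance
  refine ⟨quot a b hsq hzar, ρ, hinv, ?_, ?_, ?_⟩
  · exact (IsZariskiLocalAtTarget.iff_of_openCover (P := @Flat) (datum a b hsq hzar).cover).mpr fun W => (hloc W).1
  · exact (IsZariskiLocalAtTarget.iff_of_openCover (P := @Surjective) (datum a b hsq hzar).cover).mpr
      fun W => (hloc W).2
  · have h : IsPullback (a.prod b).act.left (snd G (X ⊗ U)).left ρ.left ρ.left := hP.map (Over.forget S)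
    rw [show GIT.PsiY (a.prod b) ρ hinv = h.isoPullback.hom from pullback.hom_ext
      (by simp [GIT.PsiY]) (by simp [GIT.PsiY])]
    infer_instance

end Groth.L16.MixedQuot
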