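import Groth.Prelude.Def_NonAbH2
import Groth.Agent.L19.FpqcCover
import Mathlib.AlgebraicGeometry.Morphisms.FlatDescent

/-!
# Properties of the projection of a locally trivial torsor
-/

set_option autoImplicit false
set_option linter.style.haveILetI false
set_option backward.isDefEq.respectTransparency.types false
set_option backward.isDefEq.respectTransparency false

universe u

open CategoryTheory CategoryTheory.Limits AlgebraicGeometry

namespace Groth.L16.AssocBundle

/-- If `(σ, p)` is a kernel pair of `f` and `f` has sections fpqc-locally, then `f` has every property of `p`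
which is stable under base change and descends. -/
theorem of_kernelPair (P : MorphismProperty Scheme.{u}) [IsZariskiLocalAtTarget P] [P.IsStableUnderBaseChange]
    [P.DescendsAlong (@Surjective ⊓ @Flat ⊓ @QuasiCompact : MorphismProperty Scheme.{u})]
    {E X Y : Scheme.{u}} {σ p : E ⟶ X} {f : X ⟶ Y} (h : IsPullback σ p f f)
    (hloc : NonAbH1.IsLocallyTrivialFor Scheme.fpqcPrecoverage (Over.mk f : Over Y)) (hp : P p) : P f := by
  obtain ⟨R, hR, hsec⟩ := hloc
  obtain ⟨ι, Z, g, rfl⟩ := R.exists_eq_ofArrows
  refine Groth.L19.of_fpqc P inferInstance f hR fun i => ?_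
  obtain ⟨s, hs⟩ := hsec (g i) ⟨i⟩
  have h1 : IsPullback (pullback.fst p s ≫ σ) (pullback.snd p s) f (g i) := by
    have h0 := (IsPullback.of_hasPullback p s).paste_horiz h
    rwa [show s ≫ f = g i from hs] at h0
  rw [← h1.isoPullback_inv_snd]
  exact MorphismProperty.RespectsIso.precomp P h1.isoPullback.inv _ (P.pullback_snd _ _ hp)

end Groth.L16.AssocBundle
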