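import Groth.Agent.L16.AssocBundle.Props
import Groth.Agent.L19.AlgGrpBasic.AssocBundle
import Groth.Agent.L27.Torsor.Cov
import Groth.Agent.L18.GIT.UnivQuot
import Groth.Agent.L16.SecComp.Smooth
import Groth.Agent.L11.Magnet.Factor
import Groth.Agent.L25.Actions
import Groth.Agent.S0082
import Groth.Agent.S0353
import Groth.Agent.S7800
import Groth.Prelude.Def_ChGrp

/-!
# An extension of special groups is special
-/

set_option autoImplicit false
set_option linter.style.haveILetI false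
set_option backward.isDefEq.respectTransparency.types false
set_option backward.isDefEq.respectTransparency false

universe u

open CategoryTheory CategoryTheory.Limits MonoidalCategory CartesianMonoidalCategory MonObj AlgebraicGeometry
open Groth.L19.AlgGrpBasic.Assoc (existsUnique_translator diag lift_diag)
open Groth.L27.Torsor (Cov descend cancel)
open Groth.L25.Actions (one_act mul_act)

noncomputable section

namespace Groth.L16.Special

variable {S : Scheme.{u}} {G N Q X Y W : Over S} [GrpObj G] [GrpObj N] [GrpObj Q]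
  (a : AlgGrp.Action G X) {φ : X ⟶ Y} (q : G ⟶ Q) [IsMonHom q]

/-- `G` acts on `Q` through `q`. -/
def qAct : AlgGrp.Action G Q := (NonAbH1.trivialAction Q).restrict q

theorem lift_qAct {T : Over S} (g : T ⟶ G) (h : T ⟶ Q) : lift g h ≫ (qAct q).act = (g ≫ q) * h := by
  show lift g h ≫ (q ▷ Q) ≫ μ[Q] = _
  rw [lift_whiskerRight_assoc]
  exact (Hom.mul_def (g ≫ q) h).symm

variable {ψ : X ⊗ Q ⟶ W} {r : W ⟶ Y}
  (hsq : IsPullback a.act.left (snd G X).left φ.left φ.left)
  (hinv : diag a (qAct q) ≫ ψ = snd G (X ⊗ Q) ≫ ψ)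
  (hO : IsPullback (fst X Q) ψ φ r)

include hsq hinv hO in
theorem eq_iff {T : Over S} (x x' : T ⟶ X) (h h' : T ⟶ Q) :
    lift x h ≫ ψ = lift x' h' ≫ ψ ↔
      ∃ g : T ⟶ G, lift g x ≫ a.act = x' ∧ (g ≫ q) * h = h' := by
  constructor
  · intro e
    have eY : x' ≫ φ = x ≫ φ := by
      have h1 := congrArg (· ≫ r) e
      simp only [Category.assoc, ← hO.w, lift_fst_assoc] at h1
      exact h1.symm
    obtain ⟨g, hg, -⟩ := existsUnique_translator a hsq x' x eY
    refine ⟨g, hg, ?_⟩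
    have h2 : lift g (lift x h) ≫ diag a (qAct q) = lift x' h' := by
      refine hO.hom_ext ?_ ?_
      · rw [lift_diag, lift_fst, lift_fst, lift_fst, hg]
      · rw [Category.assoc, hinv, lift_snd_assoc, e]
    have h3 := congrArg (· ≫ snd X Q) h2
    simp only [lift_diag, lift_snd, lift_fst, lift_qAct] at h3
    exact h3
  · rintro ⟨g, hg, hh⟩
    have h2 : lift x' h' = lift g (lift x h) ≫ diag a (qAct q) := by
      rw [lift_diag, lift_fst, lift_snd, hg, lift_qAct, hh]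
    rw [h2, Category.assoc, hinv, lift_snd_assoc]

include hsq hinv hO in
theorem exists_action (hψ : Cov ψ) :
    ∃ c : AlgGrp.Action Q W, ∀ {T : Over S} (x : T ⟶ X) (h h' : T ⟶ Q),
      lift h' (lift x h ≫ ψ) ≫ c.act = lift x (h * h'⁻¹) ≫ ψ := by
  have hcov : Cov (Q ◁ ψ) := hψ.whiskerLeft Q
  let v₁ := fst Q (X ⊗ Q)
  let v₂ := snd Q (X ⊗ Q)
  obtain ⟨c, hc⟩ := descend hcov (lift (v₂ ≫ fst X Q) ((v₂ ≫ snd X Q) * v₁⁻¹) ≫ ψ) (fun T v v' e => by
    have e1 : v ≫ v₁ = v' ≫ v₁ := by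
      have := congrArg (· ≫ fst Q W) e
      simpa [v₁] using this
    have e2 : lift (v ≫ v₂ ≫ fst X Q) (v ≫ v₂ ≫ snd X Q) ≫ ψ = lift (v' ≫ v₂ ≫ fst X Q) (v' ≫ v₂ ≫ snd X Q) ≫ ψ := by
      have := congrArg (· ≫ snd Q W) e
      simp only [Category.assoc, whiskerLeft_snd] at this
      rwa [← comp_lift v, ← comp_lift v', ← comp_lift v₂, lift_fst_snd, Category.comp_id, Category.assoc,
        Category.assoc]
    obtain ⟨g, hg, hh⟩ := (eq_iff a q hsq hinv hO _ _ _ _).1 e2
    rw [← Category.assoc, ← Category.assoc, comp_lift, comp_lift, MonObj.comp_mul, MonObj.comp_mul,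
      GrpObj.comp_inv, GrpObj.comp_inv, e1]
    exact (eq_iff a q hsq hinv hO _ _ _ _).2 ⟨g, hg, by rw [← _root_.mul_assoc, hh]⟩)
  have key : ∀ {T : Over S} (x : T ⟶ X) (h h' : T ⟶ Q),
      lift h' (lift x h ≫ ψ) ≫ c = lift x (h * h'⁻¹) ≫ ψ := by
    intro T x h h'
    rw [← lift_whiskerLeft, Category.assoc, hc, ← Category.assoc, comp_lift, MonObj.comp_mul, GrpObj.comp_inv]
    simp [v₁, v₂]
  have hone : (η[Q] ▷ W) ≫ c = (λ_ W).hom := by
    refine cancel (hψ.whiskerLeft (𝟙_ (Over S))) ?_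
    obtain ⟨x, hx⟩ : ∃ x, x = snd (𝟙_ (Over S)) (X ⊗ Q) ≫ fst X Q := ⟨_, rfl⟩
    have h1 : ((𝟙_ (Over S)) ◁ ψ) ≫ (η[Q] ▷ W) =
        lift (1 : 𝟙_ (Over S) ⊗ (X ⊗ Q) ⟶ Q) (lift x (snd _ _ ≫ snd X Q) ≫ ψ) := by
      refine CartesianMonoidalCategory.hom_ext _ _ ?_ ?_
      · rw [Category.assoc, whiskerRight_fst, whiskerLeft_fst_assoc, lift_fst, Hom.one_def,
          toUnit_unique (fst (𝟙_ (Over S)) (X ⊗ Q)) (toUnit _)]
      · rw [Category.assoc, whiskerRight_snd, whiskerLeft_snd, lift_snd, hx, ← comp_lift, lift_fst_snd,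
          Category.comp_id]
    rw [← Category.assoc, h1, key, inv_one, _root_.mul_one, hx, ← comp_lift, lift_fst_snd, Category.comp_id,
      leftUnitor_hom, whiskerLeft_snd]
  have hmul : (μ[Q] ▷ W) ≫ c = (α_ Q Q W).hom ≫ (Q ◁ c) ≫ c := by
    refine cancel (hψ.whiskerLeft (Q ⊗ Q)) ?_
    let p := snd (Q ⊗ Q) (X ⊗ Q)
    let h₁ := fst (Q ⊗ Q) (X ⊗ Q) ≫ fst Q Q
    let h₂ := fst (Q ⊗ Q) (X ⊗ Q) ≫ snd Q Q
    have hp : p ≫ ψ = lift (p ≫ fst X Q) (p ≫ snd X Q) ≫ ψ := by
      rw [← comp_lift, lift_fst_snd, Category.comp_id]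
    have h0 : ((Q ⊗ Q) ◁ ψ) = lift (lift h₁ h₂) (lift (p ≫ fst X Q) (p ≫ snd X Q) ≫ ψ) := by
      rw [← hp, ← comp_lift (fst (Q ⊗ Q) (X ⊗ Q)), lift_fst_snd, Category.comp_id]
      exact CartesianMonoidalCategory.hom_ext _ _ (by rw [whiskerLeft_fst, lift_fst]) (by rw [whiskerLeft_snd, lift_snd])
    rw [h0, lift_whiskerRight_assoc, ← Hom.mul_def, lift_lift_associator_hom_assoc, lift_whiskerLeft_assoc,
      key, key, key, mul_inv_rev, _root_.mul_assoc]
  exact ⟨⟨c, hone, hmul⟩, key⟩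

include hsq hinv hO in
theorem isPullback_action (hφ : Cov φ) (c : AlgGrp.Action Q W)
    (hc : ∀ {T : Over S} (x : T ⟶ X) (h h' : T ⟶ Q),
      lift h' (lift x h ≫ ψ) ≫ c.act = lift x (h * h'⁻¹) ≫ ψ) :
    IsPullback c.act (snd Q W) r r := by
  have hψ : Cov ψ := Cov.of_isPullback hO hφ
  have hw : c.act ≫ r = snd Q W ≫ r := by
    refine cancel (hψ.whiskerLeft Q) ?_
    have h0 : (Q ◁ ψ) = lift (fst Q (X ⊗ Q))
        (lift (snd Q (X ⊗ Q) ≫ fst X Q) (snd Q (X ⊗ Q) ≫ snd X Q) ≫ ψ) := by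
      rw [← comp_lift, lift_fst_snd, Category.comp_id]
      exact CartesianMonoidalCategory.hom_ext _ _ (by simp) (by simp)
    rw [h0, ← Category.assoc, hc, Category.assoc, ← hO.w, lift_fst_assoc, lift_snd_assoc, Category.assoc (f := lift _ _),
      ← hO.w, lift_fst_assoc]
  have hex : ∀ {T : Over S} (w w' : T ⟶ W), w ≫ r = w' ≫ r → ∃! h : T ⟶ Q, lift h w' ≫ c.act = w := by
    intro T w w' e
    let T' : Over S := Over.mk (pullback.fst (w ≫ r).left φ.left ≫ T.hom)
    let p : T' ⟶ T := Over.homMk (pullback.fst (w ≫ r).left φ.left) rfl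
    let x : T' ⟶ X := Over.homMk (pullback.snd (w ≫ r).left φ.left) (by
      show pullback.snd (w ≫ r).left φ.left ≫ X.hom = pullback.fst (w ≫ r).left φ.left ≫ T.hom
      rw [← Over.w φ, ← pullback.condition_assoc, Over.w (w ≫ r)])
    have hTp : IsPullback x p φ (w ≫ r) :=
      Groth.L18.GITQ.isPullback_over (Over.OverMorphism.ext pullback.condition.symm)
        (IsPullback.of_hasPullback (w ≫ r).left φ.left).flip
    have hpc : Cov p := Cov.of_isPullback hTp hφ
    have coord : ∀ {T₁ : Over S} (x₁ : T₁ ⟶ X) (u : T₁ ⟶ W), x₁ ≫ φ = u ≫ r → ∃ l, lift x₁ l ≫ ψ = u := by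
      intro T₁ x₁ u eu
      refine ⟨hO.lift x₁ u eu ≫ snd X Q, ?_⟩
      rw [show lift x₁ (hO.lift x₁ u eu ≫ snd X Q) = hO.lift x₁ u eu from
        CartesianMonoidalCategory.hom_ext _ _ (by rw [lift_fst, hO.lift_fst]) (lift_snd _ _), hO.lift_snd]
    obtain ⟨l, hl⟩ := coord x (p ≫ w) (by rw [hTp.w, Category.assoc])
    obtain ⟨l', hl'⟩ := coord x (p ≫ w') (by rw [hTp.w, Category.assoc, e])
    have huniq : ∀ {T₁ : Over S} (x₁ : T₁ ⟶ X) (l₁ h h' : T₁ ⟶ Q),
        lift h (lift x₁ l₁ ≫ ψ) ≫ c.act = lift h' (lift x₁ l₁ ≫ ψ) ≫ c.act → h = h' := by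
      intro T₁ x₁ l₁ h h' e₁
      rw [hc, hc] at e₁
      obtain ⟨g, hg, hh⟩ := (eq_iff a q hsq hinv hO _ _ _ _).1 e₁
      obtain rfl : g = 1 := (existsUnique_translator a hsq x₁ x₁ rfl).unique hg (one_act a x₁)
      rw [MonObj.one_comp, _root_.one_mul, mul_right_inj, inv_inj] at hh
      exact hh
    obtain ⟨h, hh⟩ := descend hpc (l⁻¹ * l') (fun T₂ u v euv => by
      refine huniq (u ≫ x) (u ≫ l') _ _ ?_
      have h4 : ∀ t : T₂ ⟶ T', lift (t ≫ (l⁻¹ * l')) (lift (t ≫ x) (t ≫ l') ≫ ψ) ≫ c.act = (t ≫ p) ≫ w := by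
        intro t
        rw [hc, MonObj.comp_mul, GrpObj.comp_inv, mul_inv_rev, inv_inv, mul_inv_cancel_left, ← comp_lift, Category.assoc,
          hl, Category.assoc]
      have h5 : lift (u ≫ x) (u ≫ l') ≫ ψ = lift (v ≫ x) (v ≫ l') ≫ ψ := by
        rw [← comp_lift, ← comp_lift, Category.assoc, Category.assoc, hl', ← Category.assoc, euv, Category.assoc]
      conv_rhs => rw [h5]
      rw [h4, h4, euv])
    have hhw : lift h w' ≫ c.act = w := by
      refine cancel hpc ?_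
      rw [← Category.assoc, comp_lift, hh, ← hl', hc, mul_inv_rev, inv_inv, mul_inv_cancel_left, hl]
    refine ⟨h, hhw, fun h' e' => cancel hpc (huniq x l' _ _ ?_)⟩
    rw [hl', ← comp_lift, ← comp_lift, Category.assoc, Category.assoc, hhw, e']
  refine IsPullback.of_isLimit' ⟨hw⟩ (PullbackCone.IsLimit.mk _
    (fun s => lift (hex s.fst s.snd s.condition).exists.choose s.snd)
    (fun s => (hex s.fst s.snd s.condition).exists.choose_spec) (fun s => lift_snd _ _) (fun s m h1 h2 => ?_))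
  refine CartesianMonoidalCategory.hom_ext _ _ ?_ (h2.trans (lift_snd _ _).symm)
  rw [lift_fst]
  refine (hex s.fst s.snd s.condition).unique ?_ (hex s.fst s.snd s.condition).exists.choose_spec
  rw [← h2, ← comp_lift, lift_fst_snd, Category.comp_id]
  exact h1

/-- The projection to the quotient by the kernel. -/
def toW (ψ : X ⊗ Q ⟶ W) : X ⟶ W := lift (𝟙 X) 1 ≫ ψ

include hsq hinv hO in
theorem isPullback_toW (i : N ⟶ G) [IsMonHom i] [Mono i] (hker : AlgGrp.IsKernel i q) :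
    IsPullback (a.restrict i).act (snd N X) (toW ψ) (toW ψ) := by
  have hι : ∀ {T : Over S} (x : T ⟶ X), x ≫ toW ψ = lift x 1 ≫ ψ := fun x => by
    rw [toW, ← Category.assoc, comp_lift, Category.comp_id, MonObj.comp_one]
  have hN : ∀ {T : Over S} (n : T ⟶ N) (x : T ⟶ X), lift n x ≫ (a.restrict i).act = lift (n ≫ i) x ≫ a.act := by
    intro T n x
    rw [AlgGrp.Action.restrict_act, lift_whiskerRight_assoc]
  have hiq : ∀ {T : Over S} (n : T ⟶ N), (n ≫ i) ≫ q = 1 := fun n => by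
    rw [Category.assoc, hker.w, ← Category.assoc, Hom.one_def]
    congr 1
    exact toUnit_unique _ _
  have hw : (a.restrict i).act ≫ toW ψ = snd N X ≫ toW ψ := by
    have h1 : lift (fst N X ≫ i) (snd N X) ≫ a.act = (a.restrict i).act := by
      rw [← hN, lift_fst_snd, Category.id_comp]
    rw [hι, hι]
    exact ((eq_iff a q hsq hinv hO _ _ _ _).2 ⟨fst N X ≫ i, h1, by rw [hiq, _root_.one_mul]⟩).symm
  have hex : ∀ {T : Over S} (x x' : T ⟶ X), x ≫ toW ψ = x' ≫ toW ψ →
      ∃! n : T ⟶ N, lift n x' ≫ (a.restrict i).act = x := by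
    intro T x x' e
    rw [hι, hι] at e
    obtain ⟨g, hg, hh⟩ := (eq_iff a q hsq hinv hO _ _ _ _).1 e.symm
    rw [_root_.mul_one] at hh
    obtain ⟨n, hn⟩ : ∃ n : T ⟶ N, n ≫ i = g :=
      ⟨hker.lift g (toUnit T) (by rw [hh, Hom.one_def]), hker.lift_fst _ _ _⟩
    refine ⟨n, by dsimp only; rw [hN, hn, hg], fun n' e' => (cancel_mono i).1 ?_⟩
    dsimp only at e'
    rw [hN] at e'
    have hY : x ≫ φ = x' ≫ φ := by
      have h1 := congrArg (· ≫ r) e
      simp only [Category.assoc, ← hO.w, lift_fst_assoc] at h1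
      exact h1
    exact (existsUnique_translator a hsq x x' hY).unique e' (by rw [hn, hg])
  refine IsPullback.of_isLimit' ⟨hw⟩ (PullbackCone.IsLimit.mk _
    (fun s => lift (hex s.fst s.snd s.condition).exists.choose s.snd)
    (fun s => (hex s.fst s.snd s.condition).exists.choose_spec) (fun s => lift_snd _ _) (fun s m h1 h2 => ?_))
  refine CartesianMonoidalCategory.hom_ext _ _ ?_ (h2.trans (lift_snd _ _).symm)
  rw [lift_fst]
  refine (hex s.fst s.snd s.condition).unique ?_ (hex s.fst s.snd s.condition).exists.choose_spec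
  rw [← h2, ← comp_lift, lift_fst_snd, Category.comp_id]
  exact h1

include hsq hinv hO in
theorem whisker_comp :
    (lift ((fst X G ≫ 𝟙 X)) (snd X G)) ≫ (X ◁ q) ≫ ψ =
      (lift (snd X G)⁻¹ (fst X G) ≫ a.act) ≫ toW ψ := by
  rw [Category.comp_id, lift_fst_snd, Category.id_comp]
  have e : (X ◁ q) = lift (fst X G) (snd X G ≫ q) :=
    CartesianMonoidalCategory.hom_ext _ _ (by simp) (by simp)
  rw [toW, ← Category.assoc _ (lift _ _), comp_lift, Category.comp_id, MonObj.comp_one, e]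
  refine (eq_iff a q hsq hinv hO _ _ _ _).2 ⟨(snd X G)⁻¹, rfl, ?_⟩
  rw [GrpObj.inv_comp, inv_mul_cancel]

end Groth.L16.Special

namespace Groth.L16.Special

theorem isLocallyTrivial_zariski {k : Type u} [Field k] [CharZero k]
    (G N Q : Over (Spec (CommRingCat.of k))) [GrpObj G] [GrpObj N] [GrpObj Q]
    [IsAffine G.left] [LocallyOfFiniteType G.hom] [IsAffine Q.left] [LocallyOfFiniteType Q.hom]
    (i : N ⟶ G) [IsMonHom i] [IsClosedImmersion i.left] (q : G ⟶ Q) [IsMonHom q] [Surjective q.left]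
    (hker : AlgGrp.IsKernel i q)
    (hN : ∀ (X Y : Over (Spec (CommRingCat.of k))) (b : AlgGrp.Action N X) (ψ : X ⟶ Y),
      IsPullback b.act (snd N X) ψ ψ →
      NonAbH1.IsLocallyTrivialFor Scheme.fpqcPrecoverage (Over.mk ψ.left : Over Y.left) →
      NonAbH1.IsLocallyTrivialFor Scheme.zariskiPrecoverage (Over.mk ψ.left : Over Y.left))
    (hQ : ∀ (X Y : Over (Spec (CommRingCat.of k))) (b : AlgGrp.Action Q X) (ψ : X ⟶ Y),
      IsPullback b.act (snd Q X) ψ ψ →
      NonAbH1.IsLocallyTrivialFor Scheme.fpqcPrecoverage (Over.mk ψ.left : Over Y.left) →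
      NonAbH1.IsLocallyTrivialFor Scheme.zariskiPrecoverage (Over.mk ψ.left : Over Y.left))
    {X Y : Over (Spec (CommRingCat.of k))} (a : AlgGrp.Action G X) (φ : X ⟶ Y)
    (hcart : IsPullback a.act (snd G X) φ φ)
    (hloc : NonAbH1.IsLocallyTrivialFor Scheme.fpqcPrecoverage (Over.mk φ.left : Over Y.left)) :
    NonAbH1.IsLocallyTrivialFor Scheme.zariskiPrecoverage (Over.mk φ.left : Over Y.left) := by
  have hsq : IsPullback a.act.left (snd G X).left φ.left φ.left := hcart.map (Over.forget _)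
  haveI := Groth.L25.Actions.descendsAlong_flat_fpqc.{u}
  haveI := Groth.Agent.S0082.result.{u}
  haveI : IsAffineHom G.hom := isAffineHom_of_isAffine _
  haveI : IsAffineHom Q.hom := isAffineHom_of_isAffine _
  haveI : Flat G.hom := Groth.L11.Magnet.flat_of_field G
  haveI : Smooth Q.hom := Groth.Agent.S0353.result k Q
  haveI : GeometricallyReduced Q.hom := Groth.L16.SecComp.geometricallyReduced_of_smooth Q.hom
  haveI : LocallyOfFinitePresentation G.hom := inferInstance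
  haveI : Flat q.left := (Groth.Agent.S7800.result G Q q).1
  have esnd : (snd G X).left = pullback.snd G.hom X.hom := by simp
  haveI : IsAffineHom φ.left := Groth.L16.AssocBundle.of_kernelPair @IsAffineHom hsq hloc
    (by rw [esnd]; exact MorphismProperty.pullback_snd _ _ inferInstance)
  haveI : Flat φ.left := Groth.L16.AssocBundle.of_kernelPair @Flat hsq hloc
    (by rw [esnd]; exact MorphismProperty.pullback_snd _ _ inferInstance)
  haveI : Surjective φ.left := Groth.L16.AssocBundle.of_kernelPair @Surjective hsq hloc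
    (by rw [esnd]; exact MorphismProperty.pullback_snd _ _ (Groth.L25.Actions.surjective_grp G))
  obtain ⟨W, ψ, r, hinv, hpb⟩ := Groth.L19.AlgGrpBasic.Assoc.exists_bundle a (qAct q) hsq
  have hO : IsPullback (fst X Q) ψ φ r :=
    Groth.L18.GITQ.isPullback_over (Over.OverMorphism.ext hpb.w) hpb
  have hφ : Cov φ := Groth.L27.Torsor.cov_of_locallyTrivial φ hloc
  have hψ : Cov ψ := Cov.of_isPullback hO hφ
  obtain ⟨c, hc⟩ := exists_action a q hsq hinv hO hψ
  -- sections of `W ⟶ Y`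
  have hr : NonAbH1.IsLocallyTrivialFor Scheme.zariskiPrecoverage (Over.mk r.left : Over Y.left) := by
    refine hQ W Y c r (isPullback_action a q hsq hinv hO hφ c hc) ?_
    obtain ⟨R, hR, hsec⟩ := hloc
    refine ⟨R, hR, fun S' f hf => ?_⟩
    obtain ⟨s, hs⟩ := hsec f hf
    refine ⟨s ≫ (toW ψ).left, ?_⟩
    show (s ≫ (toW ψ).left) ≫ r.left = f
    rw [Category.assoc, ← Over.comp_left, toW, Category.assoc, ← hO.w, lift_fst_assoc, Category.id_comp]
    exact hs
  -- sections of `X ⟶ W`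
  have hι : NonAbH1.IsLocallyTrivialFor Scheme.zariskiPrecoverage (Over.mk (toW ψ).left : Over W.left) := by
    haveI : Mono i := Over.mono_of_mono_left _
    refine hN X W (a.restrict i) (toW ψ) (isPullback_toW a q hsq hinv hO i hker) ?_
    haveI : Flat ψ.left := MorphismProperty.of_isPullback (P := @Flat) hpb inferInstance
    haveI : Surjective ψ.left := MorphismProperty.of_isPullback (P := @Surjective) hpb inferInstance
    haveI : IsAffineHom ψ.left := MorphismProperty.of_isPullback (P := @IsAffineHom) hpb inferInstance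
    have hpq := Groth.L18.GITQ.isPullback_whiskerLeft X q
    haveI : Flat (X ◁ q).left := MorphismProperty.of_isPullback (P := @Flat) hpq.flip inferInstance
    haveI : Surjective (X ◁ q).left := MorphismProperty.of_isPullback (P := @Surjective) hpq.flip inferInstance
    haveI : IsAffineHom q.left := inferInstance
    haveI : IsAffineHom (X ◁ q).left := MorphismProperty.of_isPullback (P := @IsAffineHom) hpq.flip inferInstance
    refine ⟨Presieve.singleton ((X ◁ q).left ≫ ψ.left), Scheme.Hom.singleton_mem_fpqcPrecoverage _, ?_⟩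
    intro S' f hf
    cases hf
    refine ⟨(lift (snd X G)⁻¹ (fst X G) ≫ a.act).left, ?_⟩
    have e := whisker_comp a q hsq hinv hO
    rw [Category.comp_id, lift_fst_snd, Category.id_comp] at e
    exact (congrArg CommaMorphism.left e).symm
  obtain ⟨R, hR, hsec⟩ := hr
  obtain ⟨R', hR', hsec'⟩ := hι
  have hnhd : ∀ y : Y.left, ∃ (Z : Scheme.{u}) (j : Z ⟶ Y.left), IsOpenImmersion j ∧ y ∈ Set.range j ∧
      ∃ t : Z ⟶ X.left, t ≫ φ.left = j := by
    intro y
    obtain ⟨Z₁, j₁, hj₁, z₁, rfl⟩ : ∃ (Z : Scheme.{u}) (j : Z ⟶ Y.left), R j ∧ ∃ z, j z = y := by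
      obtain ⟨Z, j, hj, hz⟩ := hR.1 y
      cases hj with
      | of hk => exact ⟨_, _, hk, hz⟩
    obtain ⟨s₁, hs₁⟩ := hsec j₁ hj₁
    obtain ⟨Z₂, j₂, hj₂, z₂, hz₂⟩ : ∃ (Z : Scheme.{u}) (j : Z ⟶ W.left), R' j ∧ ∃ z, j z = s₁ z₁ := by
      obtain ⟨Z, j, hj, hz⟩ := hR'.1 (s₁ z₁)
      cases hj with
      | of hk => exact ⟨_, _, hk, hz⟩
    obtain ⟨s₂, hs₂⟩ := hsec' j₂ hj₂
    haveI : IsOpenImmersion j₁ := hR.2 hj₁
    haveI : IsOpenImmersion j₂ := hR'.2 hj₂
    obtain ⟨w, hw1, -⟩ := Scheme.Pullback.exists_preimage_pullback (f := s₁) (g := j₂) z₁ z₂ hz₂.symm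
    refine ⟨_, pullback.fst s₁ j₂ ≫ j₁, inferInstance, ⟨w, by rw [Scheme.Hom.comp_apply, hw1]⟩,
      pullback.snd s₁ j₂ ≫ s₂, ?_⟩
    have e : (toW ψ).left ≫ r.left = φ.left := by
      rw [← Over.comp_left, toW, Category.assoc, ← hO.w, lift_fst_assoc, Category.id_comp]
    rw [← e, Category.assoc, reassoc_of% (show s₂ ≫ (toW ψ).left = j₂ from hs₂), ← pullback.condition_assoc,
      show s₁ ≫ r.left = j₁ from hs₁]
  choose Z j hj hx t ht using hnhd
  refine ⟨Presieve.ofArrows Z j, ?_, ?_⟩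
  · rw [Scheme.zariskiPrecoverage, Scheme.ofArrows_mem_precoverage_iff]
    exact ⟨fun x => ⟨x, hx x⟩, fun x => hj x⟩
  · rintro _ _ ⟨x⟩
    exact ⟨t x, ht x⟩

end Groth.L16.Special

end
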